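import Mathlib
import Groth.Prelude.Def_W4c5stcicurvesp3Euclid

/-!
# The telescoping bound along the Euclidean algorithm
-/

namespace Groth.Agent.STCIEuclid

open W4c5stcicurvesp3

theorem three_step (r0 r1 r2 d1 d2 N : ℚ) (hd1 : 2 ≤ d1) (hd2 : 1 ≤ d2)
    (h2 : 0 ≤ r2) (h21 : r2 < r1) (hr0 : r0 = d2 * r1 + r2) (hN : N = d1 * r0 + r1)
    (hd : d2 = 1 ∨ 2 ≤ d2) :
    (r0 - r1) / d1 + (r1 - r2) / (d1 + d2) + r2 / (d1 + d2 + 1) ≤ r0 ^ 2 / N := by
  have hr1 : 0 < r1 := lt_of_le_of_lt h2 h21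
  have hr0' : 0 < r0 := by rw [hr0]; nlinarith
  have hN0 : 0 < N := by rw [hN]; positivity
  have key : r0 * r1 / (d1 * N) ≤ r1 * d2 / (d1 * (d1 + d2)) + r2 / ((d1 + d2) * (d1 + d2 + 1)) := by
    rcases hd with rfl | hd2'
    · have e : r0 * r1 / (d1 * N) - r1 * 1 / (d1 * (d1 + 1)) = r2 * (r1 / (d1 * N * (d1 + 1))) := by
        rw [div_sub_div _ _ (by positivity) (by positivity), mul_div, div_eq_div_iff (by positivity) (by positivity)]
        rw [hN, hr0]; ring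
      have hb : r1 / (d1 * N * (d1 + 1)) ≤ 1 / ((d1 + 1) * (d1 + 1 + 1)) := by
        rw [div_le_div_iff₀ (by positivity) (by positivity), hN, hr0]
        nlinarith [mul_nonneg (mul_nonneg hr1.le h2) (by linarith : (0:ℚ) ≤ d1), mul_pos hr1 hr1,
          mul_le_mul_of_nonneg_left (show d1 + 2 ≤ d1 * (d1 + 1) by nlinarith)
            (mul_nonneg hr1.le (show (0:ℚ) ≤ d1 + 1 by linarith)),
          mul_nonneg (mul_nonneg h2 (show (0:ℚ) ≤ d1 * d1 by positivity)) (show (0:ℚ) ≤ d1 + 1 by linarith)]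
      have := mul_le_mul_of_nonneg_left hb h2
      rw [mul_one_div] at this
      linarith
    · have hb : r0 * r1 / (d1 * N) ≤ r1 * d2 / (d1 * (d1 + d2)) := by
        rw [div_le_div_iff₀ (by positivity) (by positivity), hN]
        nlinarith [mul_le_mul_of_nonneg_left (show d1 + d2 ≤ d1 * d2 by nlinarith)
            (mul_nonneg (mul_nonneg hr0'.le hr1.le) (show (0:ℚ) ≤ d1 by linarith)),
          mul_nonneg (mul_nonneg (mul_nonneg hr1.le hr1.le) (show (0:ℚ) ≤ d1 by linarith))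
            (show (0:ℚ) ≤ d2 by linarith)]
      have : 0 ≤ r2 / ((d1 + d2) * (d1 + d2 + 1)) := by positivity
      linarith
  have e1 : (r0 - r1) / d1 + (r1 - r2) / (d1 + d2) + r2 / (d1 + d2 + 1) =
      r0 / d1 - (r1 * d2 / (d1 * (d1 + d2)) + r2 / ((d1 + d2) * (d1 + d2 + 1))) := by
    field_simp; ring
  have e2 : r0 ^ 2 / N = r0 / d1 - r0 * r1 / (d1 * N) := by
    field_simp; rw [hN]; ring
  rw [e1, e2]
  linarith

/-- The first two steps of the algorithm. -/
theorem steps (k N : ℕ) (hk : 0 < k) (hkN : 2 * k ≤ N) (h1 : irem N k 1 ≠ 0) :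
    (2 : ℚ) ≤ idiv N k 1 ∧ (1 : ℚ) ≤ idiv N k 2 ∧ (irem N k 2 : ℚ) < irem N k 1 ∧
      (irem N k 0 : ℚ) = idiv N k 2 * irem N k 1 + irem N k 2 ∧
      (N : ℚ) = idiv N k 1 * irem N k 0 + irem N k 1 ∧
      ((idiv N k 2 : ℚ) = 1 ∨ (2 : ℚ) ≤ idiv N k 2) := by
  simp only [irem] at h1
  simp only [irem, idiv, if_neg h1]
  have hd1 : 2 ≤ N / k := (Nat.le_div_iff_mul_le hk).mpr hkN
  have hlt : N % k < k := Nat.mod_lt _ hk
  have hd2 : 1 ≤ k / (N % k) := (Nat.one_le_div_iff (Nat.pos_of_ne_zero h1)).mpr hlt.le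
  refine ⟨by exact_mod_cast hd1, by exact_mod_cast hd2,
    by exact_mod_cast Nat.mod_lt _ (Nat.pos_of_ne_zero h1), ?_, ?_, ?_⟩
  · exact_mod_cast (Nat.div_add_mod' k (N % k)).symm
  · exact_mod_cast (Nat.div_add_mod' N k).symm
  · rcases hd2.eq_or_lt with h | h
    · left; exact_mod_cast h.symm
    · right; exact_mod_cast h

theorem irem_succ_le (k N : ℕ) (hk : 0 < k) : ∀ i, irem N k (i + 1) ≤ irem N k i
  | 0 => (Nat.mod_lt _ hk).le
  | i + 1 => by
    rw [irem.eq_3]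
    split_ifs with h
    · exact Nat.zero_le _
    · exact (Nat.mod_lt _ (Nat.pos_of_ne_zero h)).le

theorem telescoping (k N t : ℕ) (hk : 0 < k) (hkN : 2 * k ≤ N) (ht : 0 < t)
    (hzero : irem N k t = 0) (hmin : ∀ i, 0 < i → i < t → irem N k i ≠ 0) :
    ∑ i ∈ Finset.range t, ((irem N k i : ℚ) - irem N k (i + 1)) /
        (∑ j ∈ Finset.Icc 1 (i + 1), (idiv N k j : ℚ)) ≤ (k : ℚ) ^ 2 / N := by
  set D : ℕ → ℚ := fun i => ∑ j ∈ Finset.Icc 1 (i + 1), (idiv N k j : ℚ) with hDdef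
  change ∑ i ∈ Finset.range t, ((irem N k i : ℚ) - irem N k (i + 1)) / D i ≤ _
  have hD0 : D 0 = idiv N k 1 := by simp [D]
  have hDs : ∀ i, D (i + 1) = D i + idiv N k (i + 2) := fun i => by
    simp only [D]; rw [Finset.sum_Icc_succ_top (by omega)]
  rcases eq_or_ne t 1 with rfl | ht1
  · have h1 : N % k = 0 := hzero
    have hN : (N : ℚ) = k * (N / k : ℕ) := by exact_mod_cast (Nat.mul_div_cancel' (Nat.dvd_of_mod_eq_zero h1)).symm
    rw [Finset.sum_range_one, hD0]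
    simp only [irem, idiv, h1, Nat.cast_zero, sub_zero]
    rw [hN, sq, mul_div_mul_left _ _ (by exact_mod_cast hk.ne' : (k : ℚ) ≠ 0)]
  have h1 : irem N k 1 ≠ 0 := hmin 1 one_pos (by omega)
  obtain ⟨hd1, hd2, h21, hr0, hN, hd⟩ := steps k N hk hkN h1
  have h3 := three_step _ _ _ _ _ _ hd1 hd2 (Nat.cast_nonneg _) h21 hr0 hN hd
  simp only [irem] at h3 ⊢
  refine le_trans ?_ h3
  obtain ⟨s, rfl⟩ : ∃ s, t = s + 2 := ⟨t - 2, by omega⟩
  have hD1 : D 1 = (idiv N k 1 : ℚ) + idiv N k 2 := by rw [hDs, hD0]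
  have tail : ∀ m ≤ s, ∑ i ∈ Finset.range m, ((irem N k (i + 2) : ℚ) - irem N k (i + 3)) / D (i + 2) ≤
      ((irem N k 2 : ℚ) - irem N k (m + 2)) / (D 1 + 1) := by
    intro m
    induction m with
    | zero => simp
    | succ m ih =>
      intro hm
      rw [Finset.sum_range_succ]
      have hle : (irem N k (m + 3) : ℚ) ≤ irem N k (m + 2) := by exact_mod_cast irem_succ_le k N hk (m + 2)
      have hD : D 1 + 1 ≤ D (m + 2) := by
        have hne : irem N k 2 ≠ 0 := hmin 2 two_pos (by omega)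
        have h3' : (1 : ℚ) ≤ idiv N k 3 := by
          rw [idiv.eq_3, if_neg hne]
          exact_mod_cast (Nat.one_le_div_iff (Nat.pos_of_ne_zero hne)).mpr (irem_succ_le k N hk 1)
        clear ih hle hm
        induction m with
        | zero => rw [hDs 1]; linarith
        | succ m ih => rw [hDs (m + 2)]; have : (0:ℚ) ≤ idiv N k (m + 4) := Nat.cast_nonneg _; linarith
      have : ((irem N k (m + 2) : ℚ) - irem N k (m + 3)) / D (m + 2) ≤
          ((irem N k (m + 2) : ℚ) - irem N k (m + 3)) / (D 1 + 1) := by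
        refine div_le_div_of_nonneg_left (by linarith) ?_ hD
        rw [hD1]; linarith
      have := ih (by omega)
      have e : ((irem N k 2 : ℚ) - irem N k (m + 2)) / (D 1 + 1) +
          ((irem N k (m + 2) : ℚ) - irem N k (m + 3)) / (D 1 + 1) =
          ((irem N k 2 : ℚ) - irem N k (m + 3)) / (D 1 + 1) := by rw [← add_div]; ring
      linarith
  have hts := tail s le_rfl
  rw [hzero, Nat.cast_zero, sub_zero, hD1] at hts
  rw [Finset.sum_range_succ', Finset.sum_range_succ', hD0, hD1]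
  simp only [irem, idiv] at hts ⊢
  linarith

end Groth.Agent.STCIEuclid
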